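import Mathlib

/-!
S3685 / S3385, piece EINF (section 6 of tools/blueprints/S3685.md), hypothesis form.

`G` finite, `P ≤ G`, `h : G`, `P_j := h^j P h^-j`, `T_j := P_j ⊓ P_(j+1)`.
If
* no nontrivial subgroup of `P ⊓ P^h` is normalized by both `P` and `P^h`,
* `P_0 ≤ T_(-1) ⊔ T_0`,
* `T_(-1) ⊓ T_0` has index at most 2 in `T_(-1)` and in `T_0`,
then the intersection of `P_0, ..., P_n` is trivial for `n = orderOf h`.
-/

namespace Cfsg.Agent.Lib.H4.Sub3

open scoped Pointwise

variable {G : Type*} [Group G]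

/-- The chain `P_j = h^j P h^-j`. -/
def PJ (P : Subgroup G) (h : G) (j : ℤ) : Subgroup G := MulAut.conj (h ^ j) • P

/-- `T_j = P_j ⊓ P_(j+1)`. -/
def TJ (P : Subgroup G) (h : G) (j : ℤ) : Subgroup G := PJ P h j ⊓ PJ P h (j + 1)

theorem PJ_zero (P : Subgroup G) (h : G) : PJ P h 0 = P := by
  simp [PJ]

theorem PJ_one (P : Subgroup G) (h : G) : PJ P h 1 = MulAut.conj h • P := by
  simp [PJ]

theorem PJ_add (P : Subgroup G) (h : G) (i j : ℤ) :
    PJ P h (i + j) = MulAut.conj (h ^ i) • PJ P h j := by
  unfold PJ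
  rw [zpow_add, map_mul, mul_smul]

theorem TJ_add (P : Subgroup G) (h : G) (i j : ℤ) :
    TJ P h (i + j) = MulAut.conj (h ^ i) • TJ P h j := by
  unfold TJ
  rw [Subgroup.smul_inf, ← PJ_add, ← PJ_add, add_assoc]

/-- `E[i, i+n]`, the intersection of `P_i, ..., P_(i+n)`. -/
def EE (P : Subgroup G) (h : G) (i : ℤ) (n : ℕ) : Subgroup G :=
  ⨅ (k : ℕ) (_ : k ≤ n), PJ P h (i + k)

theorem mem_EE {P : Subgroup G} {h : G} {i : ℤ} {n : ℕ} {x : G} :
    x ∈ EE P h i n ↔ ∀ k : ℕ, k ≤ n → x ∈ PJ P h (i + k) := by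
  simp [EE, Subgroup.mem_iInf]

/-- The intersection of all `P_j`. -/
def HH (P : Subgroup G) (h : G) : Subgroup G := ⨅ j : ℤ, PJ P h j

theorem mem_HH {P : Subgroup G} {h : G} {x : G} :
    x ∈ HH P h ↔ ∀ j : ℤ, x ∈ PJ P h j := by
  simp [HH, Subgroup.mem_iInf]

theorem smul_EE (P : Subgroup G) (h : G) (j i : ℤ) (n : ℕ) :
    MulAut.conj (h ^ j) • EE P h i n = EE P h (j + i) n := by
  ext x
  rw [Subgroup.mem_pointwise_smul_iff_inv_smul_mem, mem_EE, mem_EE]
  constructor
  · intro H k hk
    have := H k hk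
    rw [add_assoc, PJ_add, Subgroup.mem_pointwise_smul_iff_inv_smul_mem]
    exact this
  · intro H k hk
    have := H k hk
    rw [add_assoc, PJ_add, Subgroup.mem_pointwise_smul_iff_inv_smul_mem] at this
    exact this

theorem smul_HH (P : Subgroup G) (h : G) (j : ℤ) :
    MulAut.conj (h ^ j) • HH P h = HH P h := by
  ext x
  rw [Subgroup.mem_pointwise_smul_iff_inv_smul_mem, mem_HH, mem_HH]
  constructor
  · intro H k
    have := H (-j + k)
    rw [← Subgroup.mem_pointwise_smul_iff_inv_smul_mem, ← PJ_add] at this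
    simpa using this
  · intro H k
    have := H (j + k)
    rw [PJ_add, Subgroup.mem_pointwise_smul_iff_inv_smul_mem] at this
    exact this

theorem HH_le_EE (P : Subgroup G) (h : G) (i : ℤ) (n : ℕ) : HH P h ≤ EE P h i n := by
  intro x hx
  rw [mem_EE]
  intro k _
  exact mem_HH.1 hx _

theorem EE_le_PJ (P : Subgroup G) (h : G) (i : ℤ) (n k : ℕ) (hk : k ≤ n) :
    EE P h i n ≤ PJ P h (i + k) := fun _ hx => mem_EE.1 hx k hk

theorem EE_succ (P : Subgroup G) (h : G) (i : ℤ) (n : ℕ) :
    EE P h i (n + 1) = EE P h i n ⊓ PJ P h (i + (n + 1 : ℕ)) := by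
  ext x
  rw [Subgroup.mem_inf, mem_EE, mem_EE]
  constructor
  · intro H
    exact ⟨fun k hk => H k (by omega), H (n + 1) le_rfl⟩
  · rintro ⟨H1, H2⟩ k hk
    rcases Nat.lt_or_ge k (n + 1) with h1 | h1
    · exact H1 k (by omega)
    · have : k = n + 1 := by omega
      subst this
      exact H2

theorem EE_pred (P : Subgroup G) (h : G) (i : ℤ) (n : ℕ) :
    EE P h (i - 1) (n + 1) = PJ P h (i - 1) ⊓ EE P h i n := by
  ext x
  rw [Subgroup.mem_inf, mem_EE, mem_EE]
  constructor
  · intro H
    refine ⟨by simpa using H 0 (by omega), fun k hk => ?_⟩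
    have := H (k + 1) (by omega)
    have e : i - 1 + ((k + 1 : ℕ) : ℤ) = i + k := by push_cast; ring
    rwa [e] at this
  · rintro ⟨H1, H2⟩ k hk
    rcases Nat.eq_zero_or_pos k with h0 | h0
    · subst h0
      simpa using H1
    · obtain ⟨k', rfl⟩ : ∃ k', k = k' + 1 := ⟨k - 1, by omega⟩
      have := H2 k' (by omega)
      have e : i - 1 + ((k' + 1 : ℕ) : ℤ) = i + k' := by push_cast; ring
      rwa [e]

theorem PJ_period (P : Subgroup G) (h : G) (j k : ℤ) :
    PJ P h ((orderOf h : ℤ) * k + j) = PJ P h j := by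
  rw [PJ_add, zpow_mul, zpow_natCast, pow_orderOf_eq_one, one_zpow, map_one, one_smul]

theorem EE_eq_HH [Finite G] (P : Subgroup G) (h : G) (i : ℤ) (n : ℕ) (hn : orderOf h ≤ n) :
    EE P h i n = HH P h := by
  apply le_antisymm _ (HH_le_EE P h i n)
  intro x hx
  rw [mem_HH]
  intro j
  have hm : 0 < orderOf h := orderOf_pos h
  have hm' : (0 : ℤ) < (orderOf h : ℤ) := by exact_mod_cast hm
  have h1 : 0 ≤ (j - i) % (orderOf h : ℤ) := Int.emod_nonneg _ hm'.ne'
  have h2 : (j - i) % (orderOf h : ℤ) < orderOf h := Int.emod_lt_of_pos _ hm'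
  obtain ⟨k, hk⟩ := Int.eq_ofNat_of_zero_le h1
  have hkn : k ≤ n := by
    have : (k : ℤ) < orderOf h := by rw [← hk]; exact h2
    have : k < orderOf h := by exact_mod_cast this
    omega
  have hx' := mem_EE.1 hx k hkn
  have e : j = (orderOf h : ℤ) * ((j - i) / (orderOf h : ℤ)) + (i + k) := by
    have := Int.emod_add_mul_ediv (j - i) (orderOf h : ℤ)
    rw [hk] at this
    linarith
  rw [e, PJ_period]
  exact hx'

/-- Two subgroups of index at most two in `C`: they are equal or generate `C`. -/
theorem sup_eq_of_relIndex_le_two [Finite G] {A B C : Subgroup G} (hA : A ≤ C) (hB : B ≤ C)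
    (iA : A.relIndex C ≤ 2) (iB : B.relIndex C ≤ 2) (hne : A ≠ B) : C ≤ A ⊔ B := by
  by_contra hC
  have hD : A ⊔ B ≤ C := sup_le hA hB
  have h0 : ∀ X Y : Subgroup G, X.relIndex Y ≠ 0 := by
    intro X Y
    have : Finite (Y ⧸ X.subgroupOf Y) := inferInstance
    unfold Subgroup.relIndex Subgroup.index
    exact Nat.card_pos.ne'
  have h1 : (A ⊔ B).relIndex C ≠ 1 := fun h => hC (Subgroup.relIndex_eq_one.1 h)
  have h2 : 2 ≤ (A ⊔ B).relIndex C := by
    have := h0 (A ⊔ B) C
    omega
  have key : ∀ X : Subgroup G, X ≤ A ⊔ B → X.relIndex C ≤ 2 → A ⊔ B ≤ X := by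
    intro X hX iX
    have hm := Subgroup.relIndex_mul_relIndex X (A ⊔ B) C hX hD
    have h3 := h0 X (A ⊔ B)
    have : X.relIndex (A ⊔ B) = 1 := by
      by_contra h4
      have h5 : 2 ≤ X.relIndex (A ⊔ B) := by omega
      have : 4 ≤ X.relIndex (A ⊔ B) * (A ⊔ B).relIndex C := by nlinarith
      omega
    exact Subgroup.relIndex_eq_one.1 this
  have e1 := key A le_sup_left iA
  have e2 := key B le_sup_right iB
  exact hne (le_antisymm (le_sup_left.trans e2) (le_sup_right.trans e1))

theorem le_normalizer_of_relIndex_le_two [Finite G] {H C : Subgroup G} (hH : H ≤ C)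
    (iH : H.relIndex C ≤ 2) : C ≤ Subgroup.normalizer (H : Set G) := by
  rw [← Subgroup.normal_subgroupOf_iff_le_normalizer hH]
  have h0 : H.relIndex C ≠ 0 := by
    have : Finite (C ⧸ H.subgroupOf C) := inferInstance
    unfold Subgroup.relIndex Subgroup.index
    exact Nat.card_pos.ne'
  have : H.relIndex C = 1 ∨ H.relIndex C = 2 := by omega
  rcases this with h1 | h2
  · have : H.subgroupOf C = ⊤ := by
      rw [Subgroup.subgroupOf_eq_top]
      exact Subgroup.relIndex_eq_one.1 h1
    rw [this]
    infer_instance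
  · exact Subgroup.normal_of_index_eq_two h2

theorem relIndex_ne_zero' [Finite G] (X Y : Subgroup G) : X.relIndex Y ≠ 0 := by
  have : Finite (Y ⧸ X.subgroupOf Y) := inferInstance
  unfold Subgroup.relIndex Subgroup.index
  exact Nat.card_pos.ne'

/-- EINF, with the hypotheses at every index. -/
theorem einf_all [Finite G] (P : Subgroup G) (h : G)
    (hA1b : ∀ X : Subgroup G, X ≤ P → X ≤ MulAut.conj h • P → P ≤ Subgroup.normalizer (X : Set G) →
      MulAut.conj h • P ≤ Subgroup.normalizer (X : Set G) → X = ⊥)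
    (hgen : ∀ j : ℤ, PJ P h j ≤ TJ P h (j - 1) ⊔ TJ P h j)
    (hidx1 : ∀ j : ℤ, (TJ P h (j - 1) ⊓ TJ P h j).relIndex (TJ P h j) ≤ 2)
    (hidx2 : ∀ j : ℤ, (TJ P h (j - 1) ⊓ TJ P h j).relIndex (TJ P h (j - 1)) ≤ 2) :
    HH P h = ⊥ := by
  -- the index-two steps
  have stepR : ∀ (i : ℤ) (r : ℕ), 1 ≤ r → (EE P h i (r + 1)).relIndex (EE P h i r) ≤ 2 := by
    intro i r hr
    set C := EE P h i r with hC
    have hCS : C ≤ TJ P h (i + r - 1) := by
      unfold TJ
      refine le_inf ?_ ?_
      · have := EE_le_PJ P h i r (r - 1) (by omega)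
        have e : i + ((r - 1 : ℕ) : ℤ) = i + r - 1 := by
          rw [Nat.cast_sub hr]; push_cast; ring
        rwa [e] at this
      · have := EE_le_PJ P h i r r le_rfl
        have e : i + (r : ℤ) = i + r - 1 + 1 := by ring
        rwa [e] at this
    have hA : EE P h i (r + 1) = (TJ P h (i + r - 1) ⊓ TJ P h (i + r)) ⊓ C := by
      rw [EE_succ, ← hC]
      apply le_antisymm
      · refine le_inf (le_inf (inf_le_left.trans hCS) ?_) inf_le_left
        unfold TJ
        refine le_inf (inf_le_left.trans (EE_le_PJ P h i r r le_rfl)) ?_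
        have e : i + ((r + 1 : ℕ) : ℤ) = i + r + 1 := by push_cast; ring
        rw [e]
        exact inf_le_right
      · refine le_inf inf_le_right ?_
        have e : i + ((r + 1 : ℕ) : ℤ) = i + r + 1 := by push_cast; ring
        rw [e]
        refine inf_le_left.trans (inf_le_right.trans ?_)
        unfold TJ
        exact inf_le_right
    rw [hA, Subgroup.inf_relIndex_right]
    have := hidx2 (i + r)
    exact (Subgroup.relIndex_le_of_le_right hCS (relIndex_ne_zero' _ _)).trans this
  have stepL : ∀ (i : ℤ) (r : ℕ), 1 ≤ r → (EE P h (i - 1) (r + 1)).relIndex (EE P h i r) ≤ 2 := by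
    intro i r hr
    set C := EE P h i r with hC
    have hCS : C ≤ TJ P h i := by
      unfold TJ
      refine le_inf ?_ ?_
      · simpa using EE_le_PJ P h i r 0 (by omega)
      · simpa using EE_le_PJ P h i r 1 hr
    have hB : EE P h (i - 1) (r + 1) = (TJ P h (i - 1) ⊓ TJ P h i) ⊓ C := by
      rw [EE_pred, ← hC]
      apply le_antisymm
      · refine le_inf (le_inf ?_ (inf_le_right.trans hCS)) inf_le_right
        unfold TJ
        refine le_inf inf_le_left ?_
        have e : i - 1 + 1 = i := by ring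
        rw [e]
        exact inf_le_right.trans (by simpa using EE_le_PJ P h i r 0 (by omega))
      · refine le_inf ?_ inf_le_right
        refine inf_le_left.trans (inf_le_left.trans ?_)
        unfold TJ
        exact inf_le_left
    rw [hB, Subgroup.inf_relIndex_right]
    have := hidx1 i
    exact (Subgroup.relIndex_le_of_le_right hCS (relIndex_ne_zero' _ _)).trans this
  -- downward induction
  have claim : ∀ (d r : ℕ), orderOf h ≤ r + d → 1 ≤ r → ∀ i : ℤ,
      EE P h i r ≤ Subgroup.normalizer (HH P h : Set G) := by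
    intro d
    induction d with
    | zero =>
      intro r hr _ i
      rw [EE_eq_HH P h i r (by omega)]
      exact Subgroup.le_normalizer
    | succ d ih =>
      intro r hr hr1 i
      have IH := ih (r + 1) (by omega) (by omega)
      set C := EE P h i r with hC
      set A := EE P h i (r + 1) with hA
      set B := EE P h (i - 1) (r + 1) with hB
      have hAC : A ≤ C := by rw [hA, EE_succ]; exact inf_le_left
      have hBC : B ≤ C := by rw [hB, EE_pred]; exact inf_le_right
      have iA : A.relIndex C ≤ 2 := stepR i r hr1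
      have iB : B.relIndex C ≤ 2 := stepL i r hr1
      by_cases hAB : A = B
      · -- A is h-invariant, so A = H
        have hinv : MulAut.conj h • A = A := by
          have := smul_EE P h 1 (i - 1) (r + 1)
          rw [zpow_one] at this
          have e : (1 : ℤ) + (i - 1) = i := by ring
          rw [e] at this
          rw [hAB]
          conv_rhs => rw [← hAB]
          exact this
        have hinv' : ∀ j : ℤ, MulAut.conj (h ^ j) • A = A := by
          intro j
          have hn : ∀ n : ℕ, MulAut.conj (h ^ n) • A = A := by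
            intro n
            induction n with
            | zero => simp
            | succ n ihn => rw [pow_succ, map_mul, mul_smul, hinv, ihn]
          rcases Int.eq_nat_or_neg j with ⟨n, rfl | rfl⟩
          · simpa using hn n
          · have := hn n
            rw [zpow_neg, zpow_natCast, map_inv]
            conv_lhs => rw [← this]
            rw [inv_smul_smul]
        have hAH : A = HH P h := by
          apply le_antisymm _ (HH_le_EE P h i (r + 1))
          intro x hx
          rw [mem_HH]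
          intro j
          have h1 : A ≤ PJ P h i := by
            simpa using EE_le_PJ P h i (r + 1) 0 (by omega)
          have h2 : MulAut.conj (h ^ (j - i)) • A ≤ MulAut.conj (h ^ (j - i)) • PJ P h i :=
            Subgroup.pointwise_smul_le_pointwise_smul_iff.2 h1
          rw [hinv', ← PJ_add] at h2
          have e : j - i + i = j := by ring
          rw [e] at h2
          exact h2 hx
        rw [← hAH]
        exact le_normalizer_of_relIndex_le_two hAC iA
      · have := sup_eq_of_relIndex_le_two hAC hBC iA iB hAB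
        exact this.trans (sup_le (IH i) (IH (i - 1)))
  have hT : ∀ i : ℤ, TJ P h i ≤ Subgroup.normalizer (HH P h : Set G) := by
    intro i
    have := claim (orderOf h) 1 (by omega) le_rfl i
    have e : EE P h i 1 = TJ P h i := by
      ext x
      rw [mem_EE]
      unfold TJ
      rw [Subgroup.mem_inf]
      constructor
      · intro H
        exact ⟨by simpa using H 0 (by omega), by simpa using H 1 le_rfl⟩
      · rintro ⟨H0, H1⟩ k hk
        interval_cases k
        · simpa using H0
        · simpa using H1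
    rwa [e] at this
  have hPn : ∀ i : ℤ, PJ P h i ≤ Subgroup.normalizer (HH P h : Set G) := fun i =>
    (hgen i).trans (sup_le (hT _) (hT _))
  apply hA1b
  · intro x hx
    have := mem_HH.1 hx 0
    rwa [PJ_zero] at this
  · intro x hx
    have := mem_HH.1 hx 1
    rwa [PJ_one] at this
  · have := hPn 0
    rwa [PJ_zero] at this
  · have := hPn 1
    rwa [PJ_one] at this

/-- EINF (section 6), hypotheses only at index 0; conclusion without auxiliary definitions:
an element lying in `h^k P h^-k` for all `0 ≤ k ≤ orderOf h` is trivial. -/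
theorem einf [Finite G] (P : Subgroup G) (h : G)
    (hA1b : ∀ X : Subgroup G, X ≤ P → X ≤ MulAut.conj h • P → P ≤ Subgroup.normalizer (X : Set G) →
      MulAut.conj h • P ≤ Subgroup.normalizer (X : Set G) → X = ⊥)
    (hgen : P ≤ TJ P h (-1) ⊔ TJ P h 0)
    (hidx1 : (TJ P h (-1) ⊓ TJ P h 0).relIndex (TJ P h 0) ≤ 2)
    (hidx2 : (TJ P h (-1) ⊓ TJ P h 0).relIndex (TJ P h (-1)) ≤ 2) :
    ∀ x : G, (∀ k : ℕ, k ≤ orderOf h → x ∈ MulAut.conj (h ^ k) • P) → x = 1 := by
  have e1 : ∀ j : ℤ, TJ P h (j - 1) = MulAut.conj (h ^ j) • TJ P h (-1) := by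
    intro j
    rw [sub_eq_add_neg, TJ_add]
  have e0 : ∀ j : ℤ, TJ P h j = MulAut.conj (h ^ j) • TJ P h 0 := by
    intro j
    conv_lhs => rw [← add_zero j]
    rw [TJ_add]
  have hH : HH P h = ⊥ := by
    apply einf_all P h hA1b
    · intro j
      rw [e1, e0 j, ← Subgroup.smul_sup]
      conv_lhs => rw [← add_zero j]
      rw [PJ_add, PJ_zero]
      exact Subgroup.pointwise_smul_le_pointwise_smul_iff.2 hgen
    · intro j
      rw [e1, e0 j, ← Subgroup.smul_inf, Subgroup.relIndex_pointwise_smul]
      exact hidx1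
    · intro j
      rw [e1, e0 j, ← Subgroup.smul_inf, Subgroup.relIndex_pointwise_smul]
      exact hidx2
  intro x hx
  have hxE : x ∈ EE P h 0 (orderOf h) := by
    rw [mem_EE]
    intro k hk
    have := hx k hk
    unfold PJ
    rw [zero_add, zpow_natCast]
    exact this
  rw [EE_eq_HH P h 0 _ le_rfl, hH, Subgroup.mem_bot] at hxE
  exact hxE

end Cfsg.Agent.Lib.H4.Sub3
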