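import Cfsg.Agent.Lib.H5.Sims.Defs
import Cfsg.Agent.Lib.H4.Sub3.Einf

/-!
S3685 / S3385, piece (EINF) with the exact signature of `tools/blueprints/S3685_sigs2.lean`.
-/

set_option autoImplicit false

open scoped Pointwise
open Cfsg.Agent.Lib.H5.Sims

namespace Cfsg.Agent.Lib.H4.Sims

variable {G : Type*} [Group G] [Finite G]

omit [Finite G] in
theorem mem_seg (S : Setup G) (i : ℤ) (n : ℕ) (x : G) :
    x ∈ S.seg i n ↔ ∀ k : ℕ, k ≤ n → x ∈ S.Pj (i + k) := by
  induction n with
  | zero =>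
    simp only [Setup.seg]
    constructor
    · intro hx k hk
      have : k = 0 := by omega
      subst this
      simpa using hx
    · intro H
      simpa using H 0 le_rfl
  | succ n ih =>
    simp only [Setup.seg, Subgroup.mem_inf, ih]
    constructor
    · rintro ⟨H1, H2⟩ k hk
      rcases Nat.lt_or_ge k (n + 1) with h1 | h1
      · exact H1 k (by omega)
      · have : k = n + 1 := by omega
        subst this
        exact H2
    · intro H
      exact ⟨fun k hk => H k (by omega), H (n + 1) le_rfl⟩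

theorem relIndex_le_two_of_card {A B : Subgroup G} (hAB : A ≤ B)
    (hc : Nat.card B = 2 * Nat.card A) : A.relIndex B ≤ 2 := by
  have h1 := Subgroup.card_mul_index (A.subgroupOf B)
  rw [Nat.card_congr (Subgroup.subgroupOfEquivOfLe hAB).toEquiv] at h1
  have hpos : 0 < Nat.card A := Nat.card_pos
  rw [hc] at h1
  have : A.relIndex B = 2 := by
    unfold Subgroup.relIndex
    apply Nat.eq_of_mul_eq_mul_left hpos
    linarith
  omega

/-- (EINF) section 6 -/
theorem einf (S : Setup G) (_hb : S.Bent) (hL : S.Loc) : ∃ n : ℕ, S.seg 0 n = ⊥ := by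
  refine ⟨orderOf S.h, ?_⟩
  have hP0 : Cfsg.Agent.Lib.H4.Sub3.PJ S.P S.h = S.Pj := rfl
  have hT0 : Cfsg.Agent.Lib.H4.Sub3.TJ S.P S.h = S.Tj := rfl
  have hQ : S.Tj (-1) ⊓ S.Tj 0 = S.Qj 0 := by
    simp [Setup.Qj]
  have key := Cfsg.Agent.Lib.H4.Sub3.einf S.P S.h ?_ ?_ ?_ ?_
  · rw [eq_bot_iff]
    intro x hx
    rw [Subgroup.mem_bot]
    apply key
    intro k hk
    have := (mem_seg S 0 (orderOf S.h) x).1 hx k hk
    rw [zero_add] at this
    simpa [Setup.Pj] using this
  · intro X hXP hXP' hn hn'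
    have h0 : S.Pj 0 = S.P := S.Pj_zero
    have h1 : S.Pj 1 = MulAut.conj S.h • S.P := S.Pj_one
    apply S.no_common_normal_Pj 0 1 X
    · rw [h0]; exact hXP
    · rw [h0]; exact hn
    · rw [h1]; exact hn'
    · have := hL.P_ne 0
      simpa using this
  · rw [hT0]
    have := hL.syl_sup 0 (S.Tj (-1)) (S.Tj 0) (by simpa using S.isSyl_Tj_pred 0) (S.isSyl_Tj 0)
      (by simpa using hL.bent 0)
    rw [this, S.Pj_zero]
  · rw [hT0, hQ]
    apply relIndex_le_two_of_card (S.Qj_le_right 0)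
    exact hL.cardQ 0
  · rw [hT0, hQ]
    apply relIndex_le_two_of_card
    · simpa using S.Qj_le_left 0
    · rw [S.card_Tj (-1)]
      exact hL.cardQ 0

end Cfsg.Agent.Lib.H4.Sims
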