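import Cfsg.Agent.Lib.H4.Sub3.L2Core

/-!
S3685 / S3385, piece (L2A) with the exact signature of `tools/blueprints/S3685_sigs2.lean`:
the case `l = 2` gives `Q_0 = V_0 = Y_0 × W` with `|W| = 4`, `|Y_0| ≤ 2`.
-/

set_option autoImplicit false

open scoped Pointwise
open Cfsg.Agent.Lib.H5.Sims

namespace Cfsg.Agent.Lib.H4.Sims

variable {G : Type*} [Group G] [Finite G]

omit [Finite G] in
theorem conj_mem_of_le_normalizer {P X : Subgroup G} (h : P ≤ Subgroup.normalizer (X : Set G)) :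
    ∀ g ∈ P, ∀ x ∈ X, g * x * g⁻¹ ∈ X := by
  intro g hg x hx
  have := h hg
  rw [Subgroup.mem_normalizer_iff] at this
  exact (this x).1 hx

omit [Finite G] in
theorem le_normalizer_of_conj_mem {P X : Subgroup G} (h : ∀ g ∈ P, ∀ x ∈ X, g * x * g⁻¹ ∈ X) :
    P ≤ Subgroup.normalizer (X : Set G) := by
  intro g hg
  rw [Subgroup.mem_normalizer_iff]
  intro x
  constructor
  · exact h g hg x
  · intro hx
    have := h g⁻¹ (P.inv_mem hg) _ hx
    have e : g⁻¹ * (g * x * g⁻¹) * g⁻¹⁻¹ = x := by group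
    rwa [e] at this

/-- (L2A) (8a)-(8d) -/
theorem l2a (S : Setup G) (hb : S.Bent) (hL : S.Loc) (hC : S.Con) (hM : S.Mod) (hl : S.Ell 2) :
    S.L2 := by
  -- a non-commuting pair
  have hnc := hl.nc (-1)
  have e1 : ((-1 : ℤ) + ((2 : ℕ) : ℤ)) = 1 := by norm_num
  rw [e1] at hnc
  unfold Comm at hnc
  push Not at hnc
  obtain ⟨v0, hv0, s, hs, hne⟩ := hnc
  have hv0V : v0 ∈ S.Vj 0 := by
    have h1 : S.IsSyl 0 (S.Tj (-1)) := by simpa using S.isSyl_Tj_pred 0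
    exact hC.Z_le_V 0 _ h1 hv0
  have hsV : s ∈ S.Vj 1 := hC.Z_le_V 1 _ (S.isSyl_Tj 1) hs
  obtain ⟨t, htP, ht3⟩ := hL.exists_three 0
  -- the Sylow `t T_0 t⁻¹`
  have hsyl : S.IsSyl 0 (MulAut.conj t • S.Tj 0) := by
    refine ⟨?_, by rw [Setup.card_conj_smul]⟩
    have h1 : MulAut.conj t • S.Tj 0 ≤ MulAut.conj t • S.Pj 0 :=
      Subgroup.pointwise_smul_le_pointwise_smul_iff.2 (S.Tj_le_left 0)
    rwa [Subgroup.conj_smul_eq_self_of_mem htP] at h1
  have hneT : S.Tj 0 ≠ MulAut.conj t • S.Tj 0 := by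
    intro h
    have htT : t ∈ S.Tj 0 := hL.syl_selfnorm 0 _ (S.isSyl_Tj 0) t htP h.symm
    obtain ⟨k, hk⟩ := hb.two ⟨t, htT⟩
    have hk' : t ^ 2 ^ k = 1 := by
      have := congrArg Subtype.val hk
      simpa using this
    have hdvd := orderOf_dvd_of_pow_eq_one hk'
    rw [ht3] at hdvd
    have := (Nat.Prime.dvd_of_dvd_pow Nat.prime_three hdvd)
    omega
  have hgen := hL.syl_sup 0 _ _ (S.isSyl_Tj 0) hsyl hneT
  have hP1 : S.Pj (0 + 1) = S.Pj 1 := by norm_num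
  have hT1 : S.Tj (1 - 1) = S.Tj 0 := by norm_num
  have H : L2Hyp (S.Pj 0) (S.Pj 1) (S.Tj 0) (S.Qj 0) (S.Qj 1) (S.Vj 0) (S.Vj 1) t v0 s :=
    { TP := S.Tj_le_left 0
      TP' := by have := S.Tj_le_right 0; rwa [hP1] at this
      QT := S.Qj_le_right 0
      QT' := by have := S.Qj_le_left 1; rwa [hT1] at this
      Qn := conj_mem_of_le_normalizer (hL.Q_norm 0)
      Qn' := conj_mem_of_le_normalizer (hL.Q_norm 1)
      cQ := hL.cardQ 0
      cQ' := hL.cardQ 1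
      VQ := hC.V_le_Q 0
      VQ' := hC.V_le_Q 1
      Vn := conj_mem_of_le_normalizer (hC.V_norm 0)
      Vn' := conj_mem_of_le_normalizer (hC.V_norm 1)
      Vsq := fun v hv => by have := hC.V_sq 0 v hv; rwa [pow_two] at this
      Vsq' := fun v hv => by have := hC.V_sq 1 v hv; rwa [pow_two] at this
      QV := fun q hq v hv => (hC.V_comm_Q 0 v hv q hq).symm
      QV' := fun q hq v hv => (hC.V_comm_Q 1 v hv q hq).symm
      core := by
        intro X hXT hn hn'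
        apply S.no_common_normal_Pj 0 1 X (hXT.trans (S.Tj_le_left 0))
          (le_normalizer_of_conj_mem hn) (le_normalizer_of_conj_mem hn')
        have := hL.P_ne 0
        rwa [hP1] at this
      tP := htP
      gen := hgen.ge
      v0V := hv0V
      sV' := hsV
      ne := hne }
  have hc2 : Nat.card ↥⁅S.Vj 0, S.Tj 0⁆ = 2 := H.card_commutator_VT
  have hQle : Nat.card (S.Qj 0) ≤ 4 * Nat.card (S.Yj 0) := H.card_Q_le
  have hcV := hM.card_V 0
  rw [hc2] at hcV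
  have hQV : S.Qj 0 = S.Vj 0 := by
    symm
    apply Subgroup.eq_of_le_of_card_ge (hC.V_le_Q 0)
    rw [hcV]
    omega
  refine ⟨hQV, ⁅S.Vj 0, Subgroup.zpowers t⁆, ?_, hM.W_norm 0 t htP ht3, ?_, hM.W_sup 0 t htP ht3,
    hM.W_disj 0 t htP ht3, ?_, s, S.Tj_le_left 0 H.sT, ?_, H.s_not_Q⟩
  · exact le_sup_right.trans (hM.W_sup 0 t htP ht3).le
  · rw [hM.W_card 0 t htP ht3, hc2]; norm_num
  · have := hM.card_Y_le
    rwa [hc2] at this
  · rw [pow_two]; exact H.s_sq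

end Cfsg.Agent.Lib.H4.Sims
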