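import Cfsg.Agent.Lib.H5.Sims.Defs

/-!
S3685 / S3385, piece (L2A): the core of section 8 in hypothesis form (shorter route):
two "parabolics" `P`, `P'` with `T = P ∩ P'` of index 3 in both, `Q`, `Q'` of index 2 in `T`,
`V ≤ Z(Q)`, `V' ≤ Z(Q')` elementary abelian normal, not commuting.  Then `Q` is elementary
abelian, `[V, T]` has order 2 and `|Q| ≤ 4 |Ω₁ Z(P)|`.
-/

set_option autoImplicit false
set_option linter.unusedSectionVars false

open scoped Pointwise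
open Cfsg.Agent.Lib.H5.Sims

namespace Cfsg.Agent.Lib.H4.Sims

variable {G : Type*} [Group G]

/-- index two: the product of two non-members is a member -/
theorem mul_mem_of_card_two [Finite G] {Q T : Subgroup G} (hQT : Q ≤ T)
    (hc : Nat.card T = 2 * Nat.card Q) {a b : G} (ha : a ∈ T) (hb : b ∈ T) (haQ : a ∉ Q)
    (hbQ : b ∉ Q) : a * b ∈ Q := by
  have hidx : (Q.subgroupOf T).index = 2 := by
    have h1 := Subgroup.card_mul_index (Q.subgroupOf T)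
    rw [Nat.card_congr (Subgroup.subgroupOfEquivOfLe hQT).toEquiv, hc] at h1
    have hpos : 0 < Nat.card Q := Nat.card_pos
    apply Nat.eq_of_mul_eq_mul_left hpos
    linarith
  have := (Subgroup.mul_mem_iff_of_index_two hidx (a := ⟨a, ha⟩) (b := ⟨b, hb⟩)).2
    (by simp [Subgroup.mem_subgroupOf, haQ, hbQ])
  simpa [Subgroup.mem_subgroupOf] using this

/-- counting by fibres -/
theorem card_le_of_fibers [Finite G] {α : Type*} [Fintype α] (Q C : Subgroup G) (F : G → α)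
    (h : ∀ a ∈ Q, ∀ b ∈ Q, F a = F b → a⁻¹ * b ∈ C) :
    Nat.card Q ≤ Fintype.card α * Nat.card C := by
  classical
  let rep : α → G := fun a => if h : ∃ x ∈ Q, F x = a then h.choose else 1
  have hrep : ∀ q ∈ Q, rep (F q) ∈ Q ∧ F (rep (F q)) = F q := by
    intro q hq
    have hex : ∃ x ∈ Q, F x = F q := ⟨q, hq, rfl⟩
    simp only [rep, dif_pos hex]
    exact hex.choose_spec
  let φ : Q → α × C := fun q =>
    (F q, ⟨(rep (F q))⁻¹ * q, h _ (hrep q q.2).1 q q.2 (hrep q q.2).2⟩)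
  have hinj : Function.Injective φ := by
    intro a b hab
    simp only [φ, Prod.mk.injEq, Subtype.mk.injEq] at hab
    obtain ⟨h1, h2⟩ := hab
    rw [h1] at h2
    exact Subtype.ext (mul_left_cancel h2)
  calc Nat.card Q ≤ Nat.card (α × C) := Nat.card_le_card_of_injective φ hinj
    _ = Fintype.card α * Nat.card C := by rw [Nat.card_prod, Nat.card_eq_fintype_card]

/-- conjugation-invariance of a generating set passes to the closure -/
theorem conj_mem_closure {A : Set G} {g : G} (hA : ∀ y ∈ A, g * y * g⁻¹ ∈ A) :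
    ∀ y ∈ Subgroup.closure A, g * y * g⁻¹ ∈ Subgroup.closure A := by
  intro y hy
  induction hy using Subgroup.closure_induction with
  | mem x hx => exact Subgroup.subset_closure (hA x hx)
  | one => simp
  | mul a b _ _ iha ihb =>
    have : g * (a * b) * g⁻¹ = (g * a * g⁻¹) * (g * b * g⁻¹) := by group
    rw [this]; exact Subgroup.mul_mem _ iha ihb
  | inv a _ iha =>
    have : g * a⁻¹ * g⁻¹ = (g * a * g⁻¹)⁻¹ := by group
    rw [this]; exact Subgroup.inv_mem _ iha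

/-- the hypotheses of the core of section 8 -/
structure L2Hyp (P P' T Q Q' V V' : Subgroup G) (t v0 s : G) : Prop where
  TP : T ≤ P
  TP' : T ≤ P'
  QT : Q ≤ T
  QT' : Q' ≤ T
  Qn : ∀ g ∈ P, ∀ q ∈ Q, g * q * g⁻¹ ∈ Q
  Qn' : ∀ g ∈ P', ∀ q ∈ Q', g * q * g⁻¹ ∈ Q'
  cQ : Nat.card T = 2 * Nat.card Q
  cQ' : Nat.card T = 2 * Nat.card Q'
  VQ : V ≤ Q
  VQ' : V' ≤ Q'
  Vn : ∀ g ∈ P, ∀ v ∈ V, g * v * g⁻¹ ∈ V
  Vn' : ∀ g ∈ P', ∀ v ∈ V', g * v * g⁻¹ ∈ V'
  Vsq : ∀ v ∈ V, v * v = 1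
  Vsq' : ∀ v ∈ V', v * v = 1
  QV : ∀ q ∈ Q, ∀ v ∈ V, q * v = v * q
  QV' : ∀ q ∈ Q', ∀ v ∈ V', q * v = v * q
  core : ∀ X : Subgroup G, X ≤ T → (∀ g ∈ P, ∀ x ∈ X, g * x * g⁻¹ ∈ X) →
    (∀ g ∈ P', ∀ x ∈ X, g * x * g⁻¹ ∈ X) → X = ⊥
  tP : t ∈ P
  gen : P ≤ T ⊔ MulAut.conj t • T
  v0V : v0 ∈ V
  sV' : s ∈ V'
  ne : v0 * s ≠ s * v0

namespace L2Hyp

variable {P P' T Q Q' V V' : Subgroup G} {t v0 s : G}

section
variable [Finite G] (H : L2Hyp P P' T Q Q' V V' t v0 s)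
include H

theorem s_sq : s * s = 1 := H.Vsq' s H.sV'
theorem v0_sq : v0 * v0 = 1 := H.Vsq v0 H.v0V
theorem s_inv : s⁻¹ = s := inv_eq_of_mul_eq_one_right H.s_sq
theorem v0_inv : v0⁻¹ = v0 := inv_eq_of_mul_eq_one_right H.v0_sq
theorem sT : s ∈ T := H.QT' (H.VQ' H.sV')
theorem v0T : v0 ∈ T := H.QT (H.VQ H.v0V)
theorem s_not_Q : s ∉ Q := fun h => H.ne (H.QV s h v0 H.v0V).symm
theorem v0_not_Q' : v0 ∉ Q' := fun h => H.ne (H.QV' v0 h s H.sV')

/-- the commutator `r = [v0, s]` -/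
theorem r_ne_one : v0 * s * v0 * s ≠ 1 := by
  intro h
  apply H.ne
  have h1 : (v0 * s) * (v0 * s) = 1 := by rw [← h]; simp [mul_assoc]
  have h2 := eq_inv_of_mul_eq_one_left h1
  rw [mul_inv_rev, H.s_inv, H.v0_inv] at h2
  exact h2

theorem r_mem_V : v0 * s * v0 * s ∈ V := by
  have h1 : s * v0 * s⁻¹ ∈ V := H.Vn s (H.TP H.sT) v0 H.v0V
  rw [H.s_inv] at h1
  have : v0 * s * v0 * s = v0 * (s * v0 * s) := by simp [mul_assoc]
  rw [this]
  exact V.mul_mem H.v0V h1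

theorem r_mem_V' : v0 * s * v0 * s ∈ V' := by
  have h1 : v0 * s * v0⁻¹ ∈ V' := H.Vn' v0 (H.TP' H.v0T) s H.sV'
  rw [H.v0_inv] at h1
  exact V'.mul_mem h1 H.sV'

theorem r_sq : (v0 * s * v0 * s) * (v0 * s * v0 * s) = 1 := H.Vsq _ H.r_mem_V

theorem r_eq : v0 * s * v0 * s = s * v0 * s * v0 := by
  have h1 := eq_inv_of_mul_eq_one_left H.r_sq
  rw [h1]
  simp only [mul_inv_rev, H.s_inv, H.v0_inv, mul_assoc]

theorem s_r_comm : s * (v0 * s * v0 * s) = (v0 * s * v0 * s) * s := by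
  conv_rhs => rw [H.r_eq]
  simp [mul_assoc]

theorem r_mul_s : (v0 * s * v0 * s) * s = v0 * s * v0 := by
  rw [mul_assoc, H.s_sq, mul_one]

/-- conjugating `s` by an element of `T` -/
theorem claim1 (x : G) (hx : x ∈ T) :
    x * s * x⁻¹ = s ∨ x * s * x⁻¹ = (v0 * s * v0 * s) * s := by
  by_cases hxQ : x ∈ Q'
  · left
    rw [H.QV' x hxQ s H.sV']
    simp
  · right
    have hq : x * v0 ∈ Q' := mul_mem_of_card_two H.QT' H.cQ' hx H.v0T hxQ H.v0_not_Q'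
    have hsv : v0 * s * v0 ∈ V' := by
      have h1 : v0 * s * v0⁻¹ ∈ V' := H.Vn' v0 (H.TP' H.v0T) s H.sV'
      rwa [H.v0_inv] at h1
    have hc := H.QV' (x * v0) hq (v0 * s * v0) hsv
    rw [H.r_mul_s]
    -- x * s * x⁻¹ = (x v0) (v0 s v0) (x v0)⁻¹
    have e1 : x * s * x⁻¹ = (x * v0) * (v0 * s * v0) * (x * v0)⁻¹ := by
      have : (x * v0) * (v0 * s * v0) * (x * v0)⁻¹ = x * (v0 * v0) * s * (v0 * v0⁻¹) * x⁻¹ := by
        simp only [mul_inv_rev, mul_assoc]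
      rw [this, H.v0_sq]
      simp
    rw [e1, hc]
    group

/-- `s` acts on `Q` as a transvection -/
theorem conj_s_Q (q : G) (hq : q ∈ Q) :
    s * q * s⁻¹ = q ∨ s * q * s⁻¹ = q * (v0 * s * v0 * s) := by
  have e : s * q = q * (q⁻¹ * s * q) := by group
  rcases H.claim1 q⁻¹ (T.inv_mem (H.QT hq)) with h1 | h1
  · left
    rw [inv_inv] at h1
    rw [h1] at e
    rw [e]; group
  · right
    rw [inv_inv] at h1
    rw [h1] at e
    rw [e]; group

/-- `[V, T] ⊆ {1, r}` -/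
theorem comm_VT (v : G) (hv : v ∈ V) (x : G) (hx : x ∈ T) :
    v * x * v⁻¹ * x⁻¹ = 1 ∨ v * x * v⁻¹ * x⁻¹ = v0 * s * v0 * s := by
  by_cases hxQ : x ∈ Q
  · left
    rw [← H.QV x hxQ v hv]; group
  · have hq : x * s ∈ Q := mul_mem_of_card_two H.QT H.cQ hx H.sT hxQ H.s_not_Q
    have hqv := H.QV (x * s) hq v hv
    -- x = (x s) s
    have ex : x = (x * s) * s := by rw [mul_assoc, H.s_sq, mul_one]
    have e1 : v * x * v⁻¹ * x⁻¹ = (x * s) * (v * s * v⁻¹ * s⁻¹) * (x * s)⁻¹ := by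
      have : v * x * v⁻¹ * x⁻¹ = (v * (x * s)) * s * v⁻¹ * s⁻¹ * (x * s)⁻¹ := by
        conv_lhs => rw [ex]
        group
      rw [this, ← hqv]; group
    rcases H.claim1 v (H.QT (H.VQ hv)) with h1 | h1
    · left
      rw [e1, h1]; group
    · right
      rw [e1, h1]
      have hr := H.QV (x * s) hq _ H.r_mem_V
      have : (v0 * s * v0 * s) * s * s⁻¹ = v0 * s * v0 * s := by group
      rw [this, hr]; group

/-- squares of `Q` are squares of `Q ⊓ Q'` -/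
theorem sq_Q (x : G) (hx : x ∈ Q) : ∃ d ∈ Q ⊓ Q', x * x = d * d := by
  by_cases hxQ : x ∈ Q'
  · exact ⟨x, ⟨hx, hxQ⟩, rfl⟩
  · have hd : x * v0 ∈ Q' := mul_mem_of_card_two H.QT' H.cQ' (H.QT hx) H.v0T hxQ H.v0_not_Q'
    refine ⟨x * v0, ⟨Q.mul_mem hx (H.VQ H.v0V), hd⟩, ?_⟩
    have hc := H.QV x hx v0 H.v0V
    calc x * x = x * x * (v0 * v0) := by rw [H.v0_sq, mul_one]
      _ = x * (x * v0) * v0 := by simp [mul_assoc]
      _ = x * (v0 * x) * v0 := by rw [hc]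
      _ = x * v0 * (x * v0) := by simp [mul_assoc]

theorem sq_Q' (x : G) (hx : x ∈ Q') : ∃ d ∈ Q ⊓ Q', x * x = d * d := by
  by_cases hxQ : x ∈ Q
  · exact ⟨x, ⟨hxQ, hx⟩, rfl⟩
  · have hd : x * s ∈ Q := mul_mem_of_card_two H.QT H.cQ (H.QT' hx) H.sT hxQ H.s_not_Q
    refine ⟨x * s, ⟨hd, Q'.mul_mem hx (H.VQ' H.sV')⟩, ?_⟩
    have hc := H.QV' x hx s H.sV'
    calc x * x = x * x * (s * s) := by rw [H.s_sq, mul_one]
      _ = x * (x * s) * s := by simp [mul_assoc]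
      _ = x * (s * x) * s := by rw [hc]
      _ = x * s * (x * s) := by simp [mul_assoc]

theorem sq_set_eq : {y : G | ∃ x ∈ Q, y = x * x} = {y : G | ∃ x ∈ Q', y = x * x} := by
  ext y
  constructor
  · rintro ⟨x, hx, rfl⟩
    obtain ⟨d, hd, e⟩ := H.sq_Q x hx
    exact ⟨d, hd.2, e⟩
  · rintro ⟨x, hx, rfl⟩
    obtain ⟨d, hd, e⟩ := H.sq_Q' x hx
    exact ⟨d, hd.1, e⟩

theorem closure_sq_eq_bot : Subgroup.closure {y : G | ∃ x ∈ Q, y = x * x} = ⊥ := by
  apply H.core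
  · rw [Subgroup.closure_le]
    rintro y ⟨x, hx, rfl⟩
    exact H.QT (Q.mul_mem hx hx)
  · intro g hg
    apply conj_mem_closure
    rintro y ⟨x, hx, rfl⟩
    exact ⟨g * x * g⁻¹, H.Qn g hg x hx, by group⟩
  · intro g hg
    rw [H.sq_set_eq]
    apply conj_mem_closure
    rintro y ⟨x, hx, rfl⟩
    exact ⟨g * x * g⁻¹, H.Qn' g hg x hx, by group⟩

/-- `Q` has exponent two -/
theorem Q_sq (x : G) (hx : x ∈ Q) : x * x = 1 := by
  have : x * x ∈ Subgroup.closure {y : G | ∃ x ∈ Q, y = x * x} :=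
    Subgroup.subset_closure ⟨x, hx, rfl⟩
  rw [H.closure_sq_eq_bot, Subgroup.mem_bot] at this
  exact this

theorem Q'_sq (x : G) (hx : x ∈ Q') : x * x = 1 := by
  have : x * x ∈ Subgroup.closure {y : G | ∃ x ∈ Q, y = x * x} := by
    rw [H.sq_set_eq]
    exact Subgroup.subset_closure ⟨x, hx, rfl⟩
  rw [H.closure_sq_eq_bot, Subgroup.mem_bot] at this
  exact this

theorem Q_inv (x : G) (hx : x ∈ Q) : x⁻¹ = x := inv_eq_of_mul_eq_one_right (H.Q_sq x hx)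

/-- `Q` is abelian -/
theorem Q_comm (a b : G) (ha : a ∈ Q) (hb : b ∈ Q) : a * b = b * a := by
  have h1 := H.Q_sq (a * b) (Q.mul_mem ha hb)
  have h2 := eq_inv_of_mul_eq_one_left h1
  rw [mul_inv_rev, H.Q_inv a ha, H.Q_inv b hb] at h2
  exact h2

/-- two elements of `Q` on which a transvection `σ` has the same effect -/
theorem comm_of_transv (σ ρ : G) (hρ : ρ ∈ Q)
    (hσ : ∀ q ∈ Q, σ * q * σ⁻¹ = q ∨ σ * q * σ⁻¹ = q * ρ) (a b : G) (ha : a ∈ Q) (hb : b ∈ Q)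
    (hab : σ * a = a * σ ↔ σ * b = b * σ) : σ * (a⁻¹ * b) = (a⁻¹ * b) * σ := by
  by_cases h1 : σ * a = a * σ
  · have h2 := hab.1 h1
    calc σ * (a⁻¹ * b) = a⁻¹ * (a * σ) * a⁻¹ * b := by group
      _ = a⁻¹ * (σ * a) * a⁻¹ * b := by rw [h1]
      _ = a⁻¹ * (σ * b) := by group
      _ = a⁻¹ * (b * σ) := by rw [h2]
      _ = (a⁻¹ * b) * σ := by group
  · have h2 : ¬ σ * b = b * σ := fun h => h1 (hab.2 h)
    have ea : σ * a * σ⁻¹ = a * ρ := by
      rcases hσ a ha with h | h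
      · exfalso; apply h1
        calc σ * a = (σ * a * σ⁻¹) * σ := by group
          _ = a * σ := by rw [h]
      · exact h
    have eb : σ * b * σ⁻¹ = b * ρ := by
      rcases hσ b hb with h | h
      · exfalso; apply h2
        calc σ * b = (σ * b * σ⁻¹) * σ := by group
          _ = b * σ := by rw [h]
      · exact h
    have hc := H.Q_comm (a⁻¹ * b) ρ (Q.mul_mem (Q.inv_mem ha) hb) hρ
    have e : σ * (a⁻¹ * b) * σ⁻¹ = a⁻¹ * b := by
      calc σ * (a⁻¹ * b) * σ⁻¹ = (σ * a * σ⁻¹)⁻¹ * (σ * b * σ⁻¹) := by group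
        _ = ρ⁻¹ * ((a⁻¹ * b) * ρ) := by rw [ea, eb]; group
        _ = a⁻¹ * b := by rw [hc]; group
    calc σ * (a⁻¹ * b) = (σ * (a⁻¹ * b) * σ⁻¹) * σ := by group
      _ = (a⁻¹ * b) * σ := by rw [e]

/-- `|Q| ≤ 4 |Ω₁ Z(P)|` -/
theorem card_Q_le : Nat.card Q ≤ 4 * Nat.card (zOf P) := by
  classical
  have hrQ : v0 * s * v0 * s ∈ Q := H.VQ H.r_mem_V
  have hr2Q : t * (v0 * s * v0 * s) * t⁻¹ ∈ Q := H.Qn t H.tP _ hrQ
  -- action of `s2 = t s t⁻¹` on `Q`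
  have conj_s2 : ∀ q ∈ Q, (t * s * t⁻¹) * q * (t * s * t⁻¹)⁻¹ = q ∨
      (t * s * t⁻¹) * q * (t * s * t⁻¹)⁻¹ = q * (t * (v0 * s * v0 * s) * t⁻¹) := by
    intro q hq
    have hq1 : t⁻¹ * q * t ∈ Q := by
      have := H.Qn t⁻¹ (P.inv_mem H.tP) q hq
      rwa [inv_inv] at this
    have e : (t * s * t⁻¹) * q * (t * s * t⁻¹)⁻¹ = t * (s * (t⁻¹ * q * t) * s⁻¹) * t⁻¹ := by group
    rcases H.conj_s_Q _ hq1 with h1 | h1
    · left; rw [e, h1]; group
    · right; rw [e, h1]; group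
  let F : G → Bool × Bool :=
    fun q => (decide (s * q = q * s), decide ((t * s * t⁻¹) * q = q * (t * s * t⁻¹)))
  have key := card_le_of_fibers Q (zOf P) F ?_
  · have h4 : Fintype.card (Bool × Bool) = 4 := by simp
    rwa [h4] at key
  intro a ha b hb hF
  simp only [F, Prod.mk.injEq, decide_eq_decide] at hF
  obtain ⟨hF1, hF2⟩ := hF
  have hcQ : a⁻¹ * b ∈ Q := Q.mul_mem (Q.inv_mem ha) hb
  have c1 : s * (a⁻¹ * b) = (a⁻¹ * b) * s :=
    H.comm_of_transv s _ hrQ H.conj_s_Q a b ha hb hF1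
  have c2 : (t * s * t⁻¹) * (a⁻¹ * b) = (a⁻¹ * b) * (t * s * t⁻¹) :=
    H.comm_of_transv _ _ hr2Q conj_s2 a b ha hb hF2
  -- the centralizer of `c = a⁻¹ b` contains `T` and `t T t⁻¹`
  have hT : T ≤ Subgroup.centralizer {a⁻¹ * b} := by
    intro x hx
    rw [Subgroup.mem_centralizer_iff]
    intro c hc
    rw [Set.mem_singleton_iff] at hc
    subst hc
    by_cases hxQ : x ∈ Q
    · exact H.Q_comm _ _ hcQ hxQ
    · have hq : x * s ∈ Q := mul_mem_of_card_two H.QT H.cQ hx H.sT hxQ H.s_not_Q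
      have ex : x = (x * s) * s := by rw [mul_assoc, H.s_sq, mul_one]
      have h1 := H.Q_comm _ _ hcQ hq
      calc a⁻¹ * b * x = a⁻¹ * b * ((x * s) * s) := by rw [← ex]
        _ = (a⁻¹ * b * (x * s)) * s := by simp [mul_assoc]
        _ = (x * s) * ((a⁻¹ * b) * s) := by rw [h1]; simp [mul_assoc]
        _ = (x * s) * (s * (a⁻¹ * b)) := by rw [c1]
        _ = ((x * s) * s) * (a⁻¹ * b) := by simp [mul_assoc]
        _ = x * (a⁻¹ * b) := by rw [← ex]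
  have hT' : MulAut.conj t • T ≤ Subgroup.centralizer {a⁻¹ * b} := by
    intro y hy
    rw [mem_conj_smul] at hy
    rw [Subgroup.mem_centralizer_iff]
    intro c hc
    rw [Set.mem_singleton_iff] at hc
    subst hc
    by_cases hxQ : t⁻¹ * y * t ∈ Q
    · have : y ∈ Q := by
        have := H.Qn t H.tP _ hxQ
        have e : t * (t⁻¹ * y * t) * t⁻¹ = y := by group
        rwa [e] at this
      exact H.Q_comm _ _ hcQ this
    · have hq : (t⁻¹ * y * t) * s ∈ Q := mul_mem_of_card_two H.QT H.cQ hy H.sT hxQ H.s_not_Q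
      have hq2 : t * ((t⁻¹ * y * t) * s) * t⁻¹ ∈ Q := H.Qn t H.tP _ hq
      have ey : y = (t * ((t⁻¹ * y * t) * s) * t⁻¹) * (t * s * t⁻¹) := by
        have : (t * ((t⁻¹ * y * t) * s) * t⁻¹) * (t * s * t⁻¹) = y * t * (s * s) * t⁻¹ := by group
        rw [this, H.s_sq]; group
      have h1 := H.Q_comm _ _ hcQ hq2
      set q2 := t * ((t⁻¹ * y * t) * s) * t⁻¹ with hq2def
      calc a⁻¹ * b * y = a⁻¹ * b * (q2 * (t * s * t⁻¹)) := by rw [← ey]
        _ = (a⁻¹ * b * q2) * (t * s * t⁻¹) := by simp [mul_assoc]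
        _ = q2 * ((a⁻¹ * b) * (t * s * t⁻¹)) := by rw [h1]; simp [mul_assoc]
        _ = q2 * ((t * s * t⁻¹) * (a⁻¹ * b)) := by rw [c2]
        _ = (q2 * (t * s * t⁻¹)) * (a⁻¹ * b) := by simp [mul_assoc]
        _ = y * (a⁻¹ * b) := by rw [← ey]
  have hP : P ≤ Subgroup.centralizer {a⁻¹ * b} := H.gen.trans (sup_le hT hT')
  rw [mem_zOf]
  refine ⟨H.TP (H.QT hcQ), ?_, ?_⟩
  · rw [pow_two]; exact H.Q_sq _ hcQ
  · intro y hy
    have := hP hy
    rw [Subgroup.mem_centralizer_iff] at this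
    exact (this _ rfl).symm

/-- `r` has order two -/
theorem orderOf_r : orderOf (v0 * s * v0 * s) = 2 := by
  apply orderOf_eq_prime
  · rw [pow_two]; exact H.r_sq
  · exact H.r_ne_one

/-- `[V, T]` is the group of order two generated by `r` -/
theorem commutator_VT : ⁅V, T⁆ = Subgroup.zpowers (v0 * s * v0 * s) := by
  apply le_antisymm
  · rw [Subgroup.commutator_le]
    intro v hv x hx
    rw [commutatorElement_def]
    rcases H.comm_VT v hv x hx with h | h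
    · rw [h]; exact Subgroup.one_mem _
    · rw [h]; exact Subgroup.mem_zpowers _
  · rw [Subgroup.zpowers_le]
    have := Subgroup.commutator_mem_commutator H.v0V H.sT
    rw [commutatorElement_def, H.v0_inv, H.s_inv] at this
    exact this

theorem card_commutator_VT : Nat.card ↥⁅V, T⁆ = 2 := by
  rw [H.commutator_VT, Nat.card_zpowers, H.orderOf_r]

end

end L2Hyp

end Cfsg.Agent.Lib.H4.Sims
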