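import Cfsg.Agent.Lib.H24.SimsMODW

/-!
S3685 / S3385, piece (MOD): the fields `cV_three`, `W_sup`, `W_disj` of `Setup.Mod`
(the operator `e = 1 + t + t²` on the elementary abelian group `V_j`).
-/

set_option autoImplicit false
set_option linter.unusedSectionVars false

open scoped Pointwise commutatorElement
open Cfsg.Agent.Lib.H5.Sims

namespace Cfsg.Agent.Lib.H4.Sims

variable {G : Type*} [Group G]

/-- an abelian subgroup as a commutative group -/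
@[reducible] def commGroupOf (V : Subgroup G) (hc : ∀ a ∈ V, ∀ b ∈ V, a * b = b * a) :
    CommGroup ↥V :=
  { (inferInstance : Group ↥V) with mul_comm := fun a b => Subtype.ext (hc a a.2 b b.2) }

section E

variable {V : Subgroup G} {t : G}

/-- conjugation by `t` on `V` -/
def tau (hn : ∀ v ∈ V, t * v * t⁻¹ ∈ V) (x : V) : V := ⟨t * x * t⁻¹, hn x x.2⟩

variable (hc : ∀ a ∈ V, ∀ b ∈ V, a * b = b * a) (hn : ∀ v ∈ V, t * v * t⁻¹ ∈ V)
  (h3 : t * t * t = 1) (hsq : ∀ v ∈ V, v * v = 1)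

theorem tau_mul (x y : V) : tau hn (x * y) = tau hn x * tau hn y :=
  Subtype.ext (by simp [tau, mul_assoc])

theorem tau_one : tau hn 1 = 1 := Subtype.ext (by simp [tau])

theorem tau_inv (x : V) : tau hn x⁻¹ = (tau hn x)⁻¹ :=
  Subtype.ext (by simp [tau, mul_assoc])

include h3 in
theorem tau3 (x : V) : tau hn (tau hn (tau hn x)) = x := by
  apply Subtype.ext
  simp only [tau]
  calc t * (t * (t * (x : G) * t⁻¹) * t⁻¹) * t⁻¹ = (t * t * t) * x * (t * t * t)⁻¹ := by group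
    _ = x := by rw [h3]; simp

/-- `e = 1 + t + t²` -/
def ee (hn : ∀ v ∈ V, t * v * t⁻¹ ∈ V) (x : V) : V := x * tau hn x * tau hn (tau hn x)

include hc in
theorem ee_mul (x y : V) : ee hn (x * y) = ee hn x * ee hn y := by
  let _ := commGroupOf V hc
  simp only [ee, tau_mul]
  ac_rfl

theorem ee_one : ee hn 1 = 1 := by simp [ee, tau_one]

include hc in
theorem ee_inv (x : V) : ee hn x⁻¹ = (ee hn x)⁻¹ := by
  have := ee_mul hc hn x x⁻¹
  rw [mul_inv_cancel, ee_one] at this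
  exact (inv_eq_of_mul_eq_one_right this.symm).symm

include hc h3 in
theorem tau_ee (x : V) : tau hn (ee hn x) = ee hn x := by
  let _ := commGroupOf V hc
  simp only [ee, tau_mul, tau3 hn h3]
  ac_rfl

include hc h3 in
theorem ee_tau (x : V) : ee hn (tau hn x) = ee hn x := by
  let _ := commGroupOf V hc
  simp only [ee, tau3 hn h3]
  ac_rfl

include hsq in
theorem sq_one (x : V) : x * x = 1 := Subtype.ext (hsq x x.2)

include hsq in
theorem ee_fix (x : V) (h : tau hn x = x) : ee hn x = x := by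
  simp only [ee, h]
  rw [sq_one hsq, one_mul]

include hsq in
theorem mul_ee (x : V) : x * ee hn x = tau hn x * tau hn (tau hn x) := by
  simp only [ee]
  rw [← mul_assoc, ← mul_assoc, sq_one hsq, one_mul]

include hc hsq in
theorem eq_ee_mul (x : V) : x = ee hn x * (tau hn x * tau hn (tau hn x)) := by
  rw [← mul_ee hn hsq, ← mul_assoc]
  let _ := commGroupOf V hc
  rw [mul_comm (ee hn x) x, mul_assoc, sq_one hsq, mul_one]

/-- the kernel of `e`, as a subgroup of the ambient group -/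
def kerE (hc : ∀ a ∈ V, ∀ b ∈ V, a * b = b * a) (hn : ∀ v ∈ V, t * v * t⁻¹ ∈ V) : Subgroup G where
  carrier := {w | ∃ hw : w ∈ V, ee hn ⟨w, hw⟩ = 1}
  one_mem' := ⟨V.one_mem, ee_one hn⟩
  mul_mem' := by
    rintro a b ⟨ha, ea⟩ ⟨hb, eb⟩
    refine ⟨V.mul_mem ha hb, ?_⟩
    have := ee_mul hc hn ⟨a, ha⟩ ⟨b, hb⟩
    rw [ea, eb, one_mul] at this
    exact this
  inv_mem' := by
    rintro a ⟨ha, ea⟩
    refine ⟨V.inv_mem ha, ?_⟩
    have := ee_inv hc hn ⟨a, ha⟩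
    rw [ea, inv_one] at this
    exact this

include h3 in
theorem zpowers_cases (g : G) (hg : g ∈ Subgroup.zpowers t) : g = 1 ∨ g = t ∨ g = t * t := by
  obtain ⟨k, rfl⟩ := Subgroup.mem_zpowers_iff.1 hg
  have h3' : t ^ (3 : ℤ) = 1 := by
    have : t ^ (3 : ℤ) = t * t * t := by
      rw [show (3 : ℤ) = 1 + 1 + 1 by norm_num, zpow_add, zpow_add, zpow_one]
    rw [this, h3]
  have hk : t ^ k = t ^ (k % 3) := by
    conv_lhs => rw [← Int.emod_add_mul_ediv k 3, zpow_add, zpow_mul, h3', one_zpow, mul_one]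
  have : k % 3 = 0 ∨ k % 3 = 1 ∨ k % 3 = 2 := by omega
  rcases this with h | h | h
  · left; rw [hk, h, zpow_zero]
  · right; left; rw [hk, h, zpow_one]
  · right; right; rw [hk, h, show (2 : ℤ) = 1 + 1 by norm_num, zpow_add, zpow_one]

include hc h3 in
/-- `e` kills `[V, ⟨t⟩]` -/
theorem commutator_le_kerE : ⁅V, Subgroup.zpowers t⁆ ≤ kerE hc hn := by
  rw [Subgroup.commutator_le]
  intro v hv g hg
  have m1 : t * v⁻¹ * t⁻¹ ∈ V := hn _ (V.inv_mem hv)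
  have m2 : t * (t * v⁻¹ * t⁻¹) * t⁻¹ ∈ V := hn _ m1
  rcases zpowers_cases h3 g hg with h | h | h
  · rw [h, commutatorElement_def]
    simp only [mul_one, inv_one, mul_inv_cancel]
    exact Subgroup.one_mem _
  · rw [h]
    have hm : ⁅v, t⁆ ∈ V := by
      rw [commutatorElement_def]
      have := V.mul_mem hv m1
      simpa [mul_assoc] using this
    refine ⟨hm, ?_⟩
    have e1 : (⟨⁅v, t⁆, hm⟩ : V) = ⟨v, hv⟩ * (tau hn ⟨v, hv⟩)⁻¹ := by
      apply Subtype.ext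
      simp [tau, commutatorElement_def, mul_assoc]
    rw [e1, ee_mul hc hn, ee_inv hc hn, ee_tau hc hn h3, mul_inv_cancel]
  · rw [h]
    have hm : ⁅v, t * t⁆ ∈ V := by
      rw [commutatorElement_def]
      have := V.mul_mem hv m2
      simpa [mul_assoc] using this
    refine ⟨hm, ?_⟩
    have e1 : (⟨⁅v, t * t⁆, hm⟩ : V) = ⟨v, hv⟩ * (tau hn (tau hn ⟨v, hv⟩))⁻¹ := by
      apply Subtype.ext
      simp [tau, commutatorElement_def, mul_assoc]
    rw [e1, ee_mul hc hn, ee_inv hc hn, ee_tau hc hn h3, ee_tau hc hn h3, mul_inv_cancel]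

include hc hsq in
/-- `t v t⁻¹ · t² v t⁻²` lies in `[V, ⟨t⟩]` -/
theorem tau_mul_tau_mem (x : V) :
    ((tau hn x * tau hn (tau hn x) : V) : G) ∈ ⁅V, Subgroup.zpowers t⁆ := by
  have h1 : ⁅((x⁻¹ : V) : G), t⁆ ∈ ⁅V, Subgroup.zpowers t⁆ :=
    Subgroup.commutator_mem_commutator (x⁻¹).2 (Subgroup.mem_zpowers t)
  have h2 : ⁅((x⁻¹ : V) : G), t * t⁆ ∈ ⁅V, Subgroup.zpowers t⁆ :=
    Subgroup.commutator_mem_commutator (x⁻¹).2
      (Subgroup.mul_mem _ (Subgroup.mem_zpowers t) (Subgroup.mem_zpowers t))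
  have e : ((tau hn x * tau hn (tau hn x) : V) : G) =
      ⁅((x⁻¹ : V) : G), t⁆ * ⁅((x⁻¹ : V) : G), t * t⁆ := by
    have e1 : tau hn x * tau hn (tau hn x) =
        (x⁻¹ * tau hn x) * (x⁻¹ * tau hn (tau hn x)) := by
      let _ := commGroupOf V hc
      have hx : x⁻¹ * x⁻¹ = 1 := by rw [← mul_inv_rev, sq_one hsq, inv_one]
      calc tau hn x * tau hn (tau hn x) = (x⁻¹ * x⁻¹) * (tau hn x * tau hn (tau hn x)) := by
            rw [hx, one_mul]
        _ = (x⁻¹ * tau hn x) * (x⁻¹ * tau hn (tau hn x)) := by ac_rfl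
    rw [e1]
    simp [tau, commutatorElement_def, mul_assoc]
  rw [e]
  exact Subgroup.mul_mem _ h1 h2

end E

section Main

variable [Finite G] (S : Setup G)

theorem t_cube {t : G} (ht3 : orderOf t = 3) : t * t * t = 1 := by
  have := pow_orderOf_eq_one t
  rw [ht3] at this
  rw [← this]
  simp [pow_succ]

/-- the relation `s (t y t⁻¹) s⁻¹ = t⁻¹ (s y s⁻¹) t` on `V_j`, for `s ∈ X \ Q_j` -/
theorem conj_rel (hb : S.Bent) (hC : S.Con) (j : ℤ) (X : Subgroup G) (hX : S.IsSyl j X) (s : G)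
    (hs : s ∈ X) (hsQ : s ∉ S.Qj j) (t : G) (ht : t ∈ S.Pj j) (ht3 : orderOf t = 3) (y : G)
    (hy : y ∈ S.Vj j) : s * (t * y * t⁻¹) * s⁻¹ = t⁻¹ * (s * y * s⁻¹) * t := by
  obtain ⟨_, _, _, hc3⟩ := H10.Sims.loc_extra S hb
  have hq := hc3 j X hX s hs hsQ t ht ht3
  have hsP : s ∈ S.Pj j := hX.1 hs
  have h1 : s * y * s⁻¹ ∈ S.Vj j := H24.Sims.conj_mem_of_le_normalizer (hC.V_norm j) hsP hy
  have h2 : t⁻¹ * (s * y * s⁻¹) * t ∈ S.Vj j := by
    have := H24.Sims.conj_mem_of_le_normalizer (hC.V_norm j) (Subgroup.inv_mem _ ht) h1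
    simpa using this
  have hcomm := hC.V_comm_Q j _ h2 _ hq
  calc s * (t * y * t⁻¹) * s⁻¹
      = (s * t * s⁻¹ * t) * (t⁻¹ * (s * y * s⁻¹) * t) * (s * t * s⁻¹ * t)⁻¹ := by group
    _ = (t⁻¹ * (s * y * s⁻¹) * t) * (s * t * s⁻¹ * t) * (s * t * s⁻¹ * t)⁻¹ := by rw [hcomm]
    _ = t⁻¹ * (s * y * s⁻¹) * t := by group

/-- `e (Ω₁ Z(X)) ≤ Y_j` -/
theorem ee_zOf_mem_Y (hb : S.Bent) (hL : S.Loc) (hC : S.Con) (j : ℤ) (X : Subgroup G)
    (hX : S.IsSyl j X) (t : G) (ht : t ∈ S.Pj j) (ht3 : orderOf t = 3)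
    (hn : ∀ v ∈ S.Vj j, t * v * t⁻¹ ∈ S.Vj j) (z : G) (hz : z ∈ zOf X) (hzV : z ∈ S.Vj j) :
    ((ee hn ⟨z, hzV⟩ : S.Vj j) : G) ∈ S.Yj j := by
  have h3 := t_cube ht3
  have hc : ∀ a ∈ S.Vj j, ∀ b ∈ S.Vj j, a * b = b * a := H24.Sims.Con.Vj_abelian S hC j
  set x0 : S.Vj j := ⟨z, hzV⟩ with hx0
  set E : G := ((ee hn x0 : S.Vj j) : G) with hE
  have hEV : E ∈ S.Vj j := (ee hn x0).2
  have hEdef : E = z * (t * z * t⁻¹) * (t * (t * z * t⁻¹) * t⁻¹) := rfl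
  have htE : t * E * t⁻¹ = E := congrArg Subtype.val (tau_ee hc hn h3 x0)
  have hXE : ∀ x ∈ X, x * E = E * x := by
    intro x hx
    by_cases hxQ : x ∈ S.Qj j
    · exact (hC.V_comm_Q j E hEV x hxQ).symm
    · have hzx : x * z * x⁻¹ = z := by
        have := hz.2.2 x hx
        rw [this]; group
      have r1 := conj_rel S hb hC j X hX x hx hxQ t ht ht3 z hzV
      have r2 := conj_rel S hb hC j X hX x hx hxQ t ht ht3 (t * z * t⁻¹) (hn z hzV)
      rw [hzx] at r1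
      rw [r1] at r2
      have cA : t⁻¹ * z * t = t * (t * z * t⁻¹) * t⁻¹ := by
        have : t * (t * z * t⁻¹) * t⁻¹ = (t * t * t) * (t⁻¹ * z * t) * (t * t * t)⁻¹ := by group
        rw [this, h3]; simp
      have cB : t⁻¹ * (t⁻¹ * z * t) * t = t * z * t⁻¹ := by
        have : t * z * t⁻¹ = (t * t * t) * (t⁻¹ * (t⁻¹ * z * t) * t) * (t * t * t)⁻¹ := by group
        rw [this, h3]; simp
      have hconj : x * E * x⁻¹ = E := by
        have e1 : x * E * x⁻¹ = (x * z * x⁻¹) * (x * (t * z * t⁻¹) * x⁻¹) *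
            (x * (t * (t * z * t⁻¹) * t⁻¹) * x⁻¹) := by
          rw [hEdef]; group
        rw [e1, hzx, r1, r2, cB, cA]
        have : ((x0 * tau hn (tau hn x0) * tau hn x0 : S.Vj j) : G) =
            ((ee hn x0 : S.Vj j) : G) := by
          congr 1
          let _ := commGroupOf (S.Vj j) hc
          simp only [ee]
          ac_rfl
        exact this
      calc x * E = (x * E * x⁻¹) * x := by group
        _ = E * x := by rw [hconj]
  have hcent : S.Pj j ≤ Subgroup.centralizer {E} := by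
    rw [← hL.sup_three j X hX t ht ht3]
    apply sup_le
    · intro x hx
      rw [Subgroup.mem_centralizer_iff]
      intro c hc'
      rw [Set.mem_singleton_iff] at hc'
      subst hc'
      exact (hXE x hx).symm
    · rw [Subgroup.zpowers_le, Subgroup.mem_centralizer_iff]
      intro c hc'
      rw [Set.mem_singleton_iff] at hc'
      subst hc'
      calc E * t = (t * E * t⁻¹) * t := by rw [htE]
        _ = t * E := by group
  show E ∈ zOf (S.Pj j)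
  rw [mem_zOf]
  refine ⟨S.Qj_le j (hC.V_le_Q j hEV), hC.V_sq j E hEV, fun y hy => ?_⟩
  have := hcent hy
  rw [Subgroup.mem_centralizer_iff] at this
  exact (this E rfl).symm

/-- `e V_j ≤ Y_j` -/
theorem ee_mem_Y (hb : S.Bent) (hL : S.Loc) (hC : S.Con)
    (hZsup : ∀ (j : ℤ) (X X' : Subgroup G), S.IsSyl j X → S.IsSyl j X' → X ≠ X' →
      zOf X ⊔ zOf X' = S.Vj j)
    (j : ℤ) (t : G) (ht : t ∈ S.Pj j) (ht3 : orderOf t = 3)
    (hn : ∀ v ∈ S.Vj j, t * v * t⁻¹ ∈ S.Vj j) (x : S.Vj j) :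
    ((ee hn x : S.Vj j) : G) ∈ S.Yj j := by
  have hc : ∀ a ∈ S.Vj j, ∀ b ∈ S.Vj j, a * b = b * a := H24.Sims.Con.Vj_abelian S hC j
  have hX := S.isSyl_Tj j
  have hX' := S.isSyl_Tj_pred j
  have hsup := hZsup j _ _ hX hX' (hL.bent j).symm
  have hxs : (x : G) ∈ zOf (S.Tj j) ⊔ zOf (S.Tj (j - 1)) := by rw [hsup]; exact x.2
  have hcomm : Comm (zOf (S.Tj j)) (zOf (S.Tj (j - 1))) :=
    fun a ha b hb => hc a (hC.Z_le_V j _ hX ha) b (hC.Z_le_V j _ hX' hb)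
  obtain ⟨a, ha, b, hb', hab⟩ := H24.Sims.exists_mul_of_mem_sup hcomm hxs
  have haV := hC.Z_le_V j _ hX ha
  have hbV := hC.Z_le_V j _ hX' hb'
  have e : x = (⟨a, haV⟩ : S.Vj j) * ⟨b, hbV⟩ := Subtype.ext hab
  rw [e, ee_mul hc hn]
  exact Subgroup.mul_mem _ (ee_zOf_mem_Y S hb hL hC j _ hX t ht ht3 hn a ha haV)
    (ee_zOf_mem_Y S hb hL hC j _ hX' t ht ht3 hn b hb' hbV)

/-- the fields `cV_three`, `W_sup`, `W_disj` of `Setup.Mod` -/
theorem mod_t (hb : S.Bent) (hL : S.Loc) (hC : S.Con)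
    (hZsup : ∀ (j : ℤ) (X X' : Subgroup G), S.IsSyl j X → S.IsSyl j X' → X ≠ X' →
      zOf X ⊔ zOf X' = S.Vj j) :
    (∀ j : ℤ, ∀ t ∈ S.Pj j, orderOf t = 3 → ∀ v ∈ S.Vj j, t * v = v * t → v ∈ S.Yj j) ∧
    (∀ j : ℤ, ∀ t ∈ S.Pj j, orderOf t = 3 →
      S.Yj j ⊔ ⁅S.Vj j, Subgroup.zpowers t⁆ = S.Vj j) ∧
    (∀ j : ℤ, ∀ t ∈ S.Pj j, orderOf t = 3 →
      S.Yj j ⊓ ⁅S.Vj j, Subgroup.zpowers t⁆ = ⊥) := by
  have hcj : ∀ j : ℤ, ∀ a ∈ S.Vj j, ∀ b ∈ S.Vj j, a * b = b * a :=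
    fun j => H24.Sims.Con.Vj_abelian S hC j
  have hnj : ∀ j : ℤ, ∀ t ∈ S.Pj j, ∀ v ∈ S.Vj j, t * v * t⁻¹ ∈ S.Vj j :=
    fun j t ht v hv => H24.Sims.conj_mem_of_le_normalizer (hC.V_norm j) ht hv
  have hsqj : ∀ j : ℤ, ∀ v ∈ S.Vj j, v * v = 1 := by
    intro j v hv
    have := hC.V_sq j v hv
    rwa [pow_two] at this
  have hYV : ∀ j : ℤ, S.Yj j ≤ S.Vj j := fun j =>
    (hC.Y_le_Z j _ (S.isSyl_Tj j)).trans (hC.Z_le_V j _ (S.isSyl_Tj j))
  have hfix : ∀ j : ℤ, ∀ t ∈ S.Pj j, orderOf t = 3 → ∀ v ∈ S.Vj j, t * v = v * t →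
      v ∈ S.Yj j := by
    intro j t ht ht3 v hv hvt
    have hn := hnj j t ht
    have h1 : tau hn ⟨v, hv⟩ = ⟨v, hv⟩ := by
      apply Subtype.ext
      simp only [tau]
      rw [hvt]; group
    have h2 := ee_fix hn (hsqj j) ⟨v, hv⟩ h1
    have h3 := ee_mem_Y S hb hL hC hZsup j t ht ht3 hn ⟨v, hv⟩
    rw [h2] at h3
    exact h3
  refine ⟨hfix, ?_, ?_⟩
  · intro j t ht ht3
    have hn := hnj j t ht
    apply le_antisymm
    · apply sup_le (hYV j)
      rw [Subgroup.commutator_le]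
      intro v hv g hg
      exact H24.Sims.Con.comm_mem_V S hC j hv ((Subgroup.zpowers_le.2 ht) hg)
    · intro v hv
      have e := eq_ee_mul (hcj j) hn (hsqj j) ⟨v, hv⟩
      have e' : v = ((ee hn ⟨v, hv⟩ : S.Vj j) : G) *
          ((tau hn ⟨v, hv⟩ * tau hn (tau hn ⟨v, hv⟩) : S.Vj j) : G) := by
        have := congrArg Subtype.val e
        simpa using this
      rw [e']
      exact Subgroup.mul_mem _
        (Subgroup.mem_sup_left (ee_mem_Y S hb hL hC hZsup j t ht ht3 hn ⟨v, hv⟩))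
        (Subgroup.mem_sup_right (tau_mul_tau_mem (hcj j) hn (hsqj j) ⟨v, hv⟩))
  · intro j t ht ht3
    have hn := hnj j t ht
    have h3 := t_cube ht3
    rw [eq_bot_iff]
    intro y hy
    rw [Subgroup.mem_bot]
    obtain ⟨hyY, hyW⟩ := hy
    obtain ⟨hyV, hek⟩ := commutator_le_kerE (hcj j) hn h3 hyW
    have hty : t * y = y * t := (hyY.2.2 t ht)
    have h1 : tau hn ⟨y, hyV⟩ = ⟨y, hyV⟩ := by
      apply Subtype.ext
      simp only [tau]
      rw [hty]; group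
    have h2 := ee_fix hn (hsqj j) ⟨y, hyV⟩ h1
    rw [hek] at h2
    exact (congrArg Subtype.val h2).symm

end Main

end Cfsg.Agent.Lib.H4.Sims
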